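import Groth.Agent.HopfRange.Basic
import Groth.Agent.Comod.Coeff
import Mathlib.RingTheory.Adjoin.FG
import Mathlib.FieldTheory.IntermediateField.Adjoin.Basic
import Mathlib.RingTheory.Localization.FractionRing

/-!
# Sub-Hopf algebras of finite type, and finite type from the fraction field
-/

universe u v

open TensorProduct

noncomputable section

namespace Groth.Agent.HopfRange

open Groth.Agent.Comod

variable {k : Type u} [Field k] {A : Type v} [CommRing A] [HopfAlgebra k A]

theorem exists_fg_isSubHopf (s : Finset A) :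
    ∃ B : Subalgebra k A, (s : Set A) ⊆ B ∧ B.FG ∧ Groth.Agent.FlatSub.IsSubHopf k B := by
  classical
  obtain ⟨n, M, hM, hmem⟩ := Groth.Agent.Comod.exists_corep_of_finset k s
  let S := HopfAlgebra.antipodeAlgHom k A
  let N := M.map S
  let gens : Finset A := (Finset.univ.image fun p : Fin n × Fin n => M p.1 p.2) ∪
    (Finset.univ.image fun p : Fin n × Fin n => N p.1 p.2)
  let B := Algebra.adjoin k (gens : Set A)
  have hMB : ∀ i j, M i j ∈ B := fun i j => Algebra.subset_adjoin (by
    show M i j ∈ gens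
    exact Finset.mem_union_left _ (Finset.mem_image.mpr ⟨(i, j), Finset.mem_univ _, rfl⟩))
  have hNB : ∀ i j, N i j ∈ B := fun i j => Algebra.subset_adjoin (by
    show N i j ∈ gens
    exact Finset.mem_union_right _ (Finset.mem_image.mpr ⟨(i, j), Finset.mem_univ _, rfl⟩))
  let ι₁ : A →ₐ[k] A ⊗[k] A := Algebra.TensorProduct.includeLeft
  let ι₂ : A →ₐ[k] A ⊗[k] A := Algebra.TensorProduct.includeRight
  have hι : ∀ f : A →ₐ[k] A ⊗[k] A, ∀ {X Y : Matrix (Fin n) (Fin n) A}, X * Y = 1 →
      X.map f * Y.map f = 1 := fun f X Y h => by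
    rw [← Matrix.map_mul, h, Matrix.map_one _ (map_zero _) (map_one _)]
  have hΔN : N.map (Bialgebra.comulAlgHom k A) = N.map ι₂ * N.map ι₁ := by
    refine left_inv_eq_right_inv (hι _ hM.antipode_mul) ?_
    rw [hM.map_comul, Matrix.mul_assoc, ← Matrix.mul_assoc (M.map ι₂), hι ι₂ hM.mul_antipode,
      Matrix.one_mul, hι ι₁ hM.mul_antipode]
  have hSN : N.map S = M := by
    refine left_inv_eq_right_inv (a := N) ?_ hM.antipode_mul
    show (M.map S).map S * M.map S = 1
    rw [← Matrix.map_mul, hM.antipode_mul, Matrix.map_one _ (map_zero _) (map_one _)]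
  let R := (Algebra.TensorProduct.map B.val B.val).range
  have hR : ∀ (a b : A), a ∈ B → b ∈ B → a ⊗ₜ[k] b ∈ R := fun a b ha hb =>
    ⟨(⟨a, ha⟩ : B) ⊗ₜ (⟨b, hb⟩ : B), rfl⟩
  have hgen : ∀ g ∈ gens, Bialgebra.comulAlgHom k A g ∈ R ∧ S g ∈ B := by
    intro g hg
    rcases Finset.mem_union.mp hg with h | h <;> obtain ⟨⟨i, j⟩, -, rfl⟩ := Finset.mem_image.mp h
    · refine ⟨?_, hNB i j⟩
      rw [show Bialgebra.comulAlgHom k A (M i j) = _ from congrFun (congrFun hM.map_comul i) j, Matrix.mul_apply]
      refine R.sum_mem fun l _ => R.mul_mem (hR _ _ (hMB i l) B.one_mem) (hR _ _ B.one_mem (hMB l j))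
    · refine ⟨?_, by rw [show S (N i j) = M i j from congrFun (congrFun hSN i) j]; exact hMB i j⟩
      rw [show Bialgebra.comulAlgHom k A (N i j) = _ from congrFun (congrFun hΔN i) j, Matrix.mul_apply]
      refine R.sum_mem fun l _ => R.mul_mem (hR _ _ B.one_mem (hNB i l)) (hR _ _ (hNB l j) B.one_mem)
  refine ⟨B, fun x hx => ?_, ⟨gens, rfl⟩, fun b hb => ?_, fun b hb => ?_⟩
  · refine (?_ : Submodule.span k (Set.range fun p : Fin n × Fin n => M p.1 p.2) ≤ B.toSubmodule)
      (hmem x hx)
    rw [Submodule.span_le]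
    rintro _ ⟨p, rfl⟩
    exact hMB p.1 p.2
  · obtain ⟨t, ht⟩ := (Algebra.adjoin_le (S := R.comap (Bialgebra.comulAlgHom k A)) fun g hg => (hgen g hg).1) hb
    exact ⟨t, ht⟩
  · exact (Algebra.adjoin_le (S := B.comap S) fun g hg => (hgen g hg).2) hb

theorem finiteType_iff_exists_adjoin_eq_top [IsDomain A] :
    Algebra.FiniteType k A ↔
      ∃ s : Finset (FractionRing A), IntermediateField.adjoin k (s : Set (FractionRing A)) = ⊤ := by
  classical
  constructor
  · rintro ⟨t, ht⟩
    refine ⟨t.image (algebraMap A (FractionRing A)), top_le_iff.mp fun x _ => ?_⟩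
    let E := IntermediateField.adjoin k ((t.image (algebraMap A (FractionRing A)) : Finset _) : Set (FractionRing A))
    have hA : ∀ a : A, algebraMap A (FractionRing A) a ∈ E := fun a => by
      have ha : a ∈ Algebra.adjoin k (t : Set A) := ht ▸ trivial
      refine (Algebra.adjoin_le (S := E.toSubalgebra.comap (IsScalarTower.toAlgHom k A (FractionRing A)))
        fun g hg => ?_) ha
      exact IntermediateField.subset_adjoin k _ (Finset.mem_image_of_mem _ hg)
    obtain ⟨a, c, -, rfl⟩ := IsFractionRing.div_surjective (A := A) x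
    exact E.div_mem (hA a) (hA c)
  · rintro ⟨s, hs⟩
    choose num den hden hfrac using fun x : FractionRing A => IsFractionRing.div_surjective (A := A) x
    obtain ⟨B, hsB, hBfg, hB⟩ := exists_fg_isSubHopf (k := k) (s.image num ∪ s.image den)
    have := Groth.Agent.FlatSub.faithfullyFlat hB
    let φ : B → FractionRing A := fun b => algebraMap A (FractionRing A) (b : A)
    let E : IntermediateField k (FractionRing A) :=
      { carrier := {x | ∃ a c : B, φ c ≠ 0 ∧ x = φ a / φ c}
        mul_mem' := by
          rintro _ _ ⟨a, c, hc, rfl⟩ ⟨a', c', hc', rfl⟩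
          refine ⟨a * a', c * c', ?_, ?_⟩
          · simpa [φ] using mul_ne_zero hc hc'
          · simp only [φ, Subalgebra.coe_mul, map_mul]
            rw [div_mul_div_comm]
        add_mem' := by
          rintro _ _ ⟨a, c, hc, rfl⟩ ⟨a', c', hc', rfl⟩
          refine ⟨a * c' + c * a', c * c', ?_, ?_⟩
          · simpa [φ] using mul_ne_zero hc hc'
          · simp only [φ, Subalgebra.coe_mul, Subalgebra.coe_add, map_mul, map_add]
            rw [div_add_div _ _ hc hc']
        algebraMap_mem' := fun r => ⟨algebraMap k B r, 1, by simp [φ], by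
          simp [φ, ← IsScalarTower.algebraMap_apply]⟩
        inv_mem' := by
          rintro _ ⟨a, c, hc, rfl⟩
          by_cases ha : φ a = 0
          · exact ⟨0, 1, by simp [φ], by simp [φ] at ha ⊢; simp [ha]⟩
          · exact ⟨c, a, ha, by rw [inv_div]⟩ }
    have htop : E = ⊤ := by
      rw [← top_le_iff, ← hs, IntermediateField.adjoin_le_iff]
      intro x hx
      refine ⟨⟨num x, hsB (Finset.mem_union_left _ (Finset.mem_image_of_mem num hx))⟩,
        ⟨den x, hsB (Finset.mem_union_right _ (Finset.mem_image_of_mem den hx))⟩,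
        IsFractionRing.to_map_ne_zero_of_mem_nonZeroDivisors (hden x), (hfrac x).symm⟩
    have hBtop : B = ⊤ := by
      rw [eq_top_iff]
      intro b _
      obtain ⟨a, c, hc, hab⟩ : algebraMap A (FractionRing A) b ∈ E := htop ▸ IntermediateField.mem_top
      have h1 : (a : A) = b * (c : A) := by
        apply IsFractionRing.injective A (FractionRing A)
        rw [map_mul, hab, div_mul_cancel₀ _ hc]
      have h2 : a ∈ ((Ideal.span {c}).map (algebraMap B A)).comap (algebraMap B A) := by
        rw [Ideal.mem_comap, Ideal.map_span, Set.image_singleton, Ideal.mem_span_singleton']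
        exact ⟨b, h1.symm⟩
      rw [Ideal.comap_map_eq_self_of_faithfullyFlat, Ideal.mem_span_singleton'] at h2
      obtain ⟨d, hd⟩ := h2
      have hd' : (d : A) * (c : A) = (a : A) := congrArg Subtype.val hd
      have hc0 : (c : A) ≠ 0 := fun h => hc (by simp [φ, h])
      rw [mul_right_cancel₀ hc0 (h1.symm.trans hd'.symm)]
      exact d.2
    rw [hBtop] at hBfg
    exact ⟨hBfg⟩

end Groth.Agent.HopfRange
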