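import Groth.Agent.Comod.FlatSub
import Mathlib.RingTheory.HopfAlgebra.Convolution
import Mathlib.RingTheory.RingHom.FaithfullyFlat

/-!
# The target of a map of commutative Hopf algebras is faithfully flat over the image
-/

universe u v w

open TensorProduct WithConv

noncomputable section

namespace Groth.Agent.HopfRange

variable {k : Type u} [Field k] {A : Type v} [CommRing A] [HopfAlgebra k A]
  {B : Type w} [CommRing B] [HopfAlgebra k B] (f : A →ₐc[k] B)

theorem comul_map (a : A) :
    Coalgebra.comul (R := k) (f a) =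
      TensorProduct.map (f : A →ₐ[k] B).toLinearMap (f : A →ₐ[k] B).toLinearMap
        (Coalgebra.comul (R := k) a) :=
  (LinearMap.congr_fun f.toCoalgHom.map_comp_comul a).symm

theorem antipode_map (a : A) :
    HopfAlgebra.antipode k (f a) = f (HopfAlgebra.antipode k a) := by
  have h : toConv ((HopfAlgebra.antipodeAlgHom k B).comp (f : A →ₐ[k] B)) *
      toConv (f : A →ₐ[k] B) = 1 := by
    refine WithConv.ext (AlgHom.ext fun x => ?_)
    rw [AlgHom.convMul_apply, AlgHom.convOne_apply]
    have h1 := HopfAlgebra.mul_antipode_rTensor_comul_apply (R := k) (f x)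
    rw [comul_map, CoalgHomClass.counit_comp_apply] at h1
    rw [← h1]
    induction Coalgebra.comul (R := k) x using TensorProduct.induction_on with
    | zero => simp
    | tmul a b => simp
    | add a b ha hb => simp only [map_add, ha, hb]
  have h2 := eq_inv_of_mul_eq_one_left h
  exact AlgHom.congr_fun (congrArg WithConv.ofConv h2) a

theorem isSubHopf_range : Groth.Agent.FlatSub.IsSubHopf k (f : A →ₐ[k] B).range := by
  constructor
  · rintro _ ⟨a, rfl⟩
    refine ⟨TensorProduct.map (f : A →ₐ[k] B).rangeRestrict.toLinearMap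
      (f : A →ₐ[k] B).rangeRestrict.toLinearMap (Coalgebra.comul (R := k) a), ?_⟩
    show _ = Coalgebra.comul (R := k) (f a)
    rw [comul_map, ← LinearMap.comp_apply, ← TensorProduct.map_comp]
    rfl
  · rintro _ ⟨a, rfl⟩
    exact ⟨HopfAlgebra.antipode k a, (antipode_map f a).symm⟩

theorem faithfullyFlat_range_val :
    ((f : A →ₐ[k] B).range.val : (f : A →ₐ[k] B).range →+* B).FaithfullyFlat := by
  exact RingHom.faithfullyFlat_algebraMap_iff.mpr
    (Groth.Agent.FlatSub.faithfullyFlat (isSubHopf_range f))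

theorem faithfullyFlat_of_injective (hf : Function.Injective f) :
    (f : A →+* B).FaithfullyFlat := by
  have h1 := faithfullyFlat_range_val f
  let e : A ≃ₐ[k] (f : A →ₐ[k] B).range := AlgEquiv.ofInjective (f : A →ₐ[k] B) hf
  rw [RingHom.FaithfullyFlat.iff_flat_and_comap_surjective] at h1 ⊢
  have he : ((e : A ≃+* (f : A →ₐ[k] B).range) : A →+* (f : A →ₐ[k] B).range).FaithfullyFlat :=
    RingHom.FaithfullyFlat.of_bijective e.bijective
  rw [RingHom.FaithfullyFlat.iff_flat_and_comap_surjective] at he
  have hc : (f : A →+* B) = ((f : A →ₐ[k] B).range.val : (f : A →ₐ[k] B).range →+* B).comp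
      ((e : A ≃+* (f : A →ₐ[k] B).range) : A →+* (f : A →ₐ[k] B).range) := RingHom.ext fun a => rfl
  rw [hc]
  exact ⟨RingHom.Flat.comp he.1 h1.1, fun p => by
    obtain ⟨q, hq⟩ := he.2 p
    obtain ⟨r, rfl⟩ := h1.2 q
    exact ⟨r, hq⟩⟩

end Groth.Agent.HopfRange
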